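import Mathlib
import Cfsg.Agent.TcData.Suz.Common
import Cfsg.Agent.Lib.TcRel

set_option autoImplicit false
set_option Elab.async false
set_option maxRecDepth 100000
set_option linter.all false

namespace Cfsg.Agent.TcData.Suz.R4

open Cfsg.Spor Cfsg.Agent.Lib.TcFacts Cfsg.Agent.Lib.TcBits Cfsg.Agent.Lib.TcPres Cfsg.Agent.Lib.TcRel Cfsg.Spor.Suz Cfsg.Agent.TcData.Suz

/-- The generators of the large subgroup. -/
def SL : List Gen := [.c, .d]

/-- The generators of the small subgroup. -/
def TL : List Gen := []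

/-- The small subgroup. -/
abbrev HH : Subgroup (PresentedGroup RR) := subOf RR TL

/-- Long generators of the subgroup. -/
noncomputable def macros : List (FreeGroup Gen) := []

/-- The letter of a signed generator. -/
def encS : Gen → Bool → ℕ
  | .a, _ => 0
  | .b, _ => 0
  | .c, _ => 0
  | .d, _ => 1
  | .e, _ => 0
  | .f, _ => 0
  | .g, _ => 0

/-- The letters. -/
noncomputable def gLS : List (FreeGroup Gen) :=
  [FreeGroup.of .c, FreeGroup.of .d]

/-- The nodes of the graph. -/
def nodesS : List Gen := [.c, .d]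

/-- Extra relators. -/
noncomputable def extraS : List (FreeGroup Gen) := []

/-- All relators, as a list. -/
noncomputable def relLS : List (FreeGroup Gen) := relAll edges nodesS extraS

/-- The relators, as words in letters. -/
def Rels : List (List ℕ) := [
  [0, 0],
  [0, 1, 0, 1, 0, 1, 0, 1, 0, 1, 0, 1, 0, 1, 0, 1],
  [1, 0, 1, 0, 1, 0, 1, 0, 1, 0, 1, 0, 1, 0, 1, 0],
  [1, 1],
  [0, 0],
  [0, 0],
  [1, 1],
  [1, 1]]

/-- The table. -/
noncomputable def T : Tr := (.node (.node (.node (.node (.leaf (nat_lit 0x2402011847050020020141024100000200c0c10200000000000000)) (.leaf (nat_lit 0x0))) (.node (.leaf (nat_lit 0x1c402079b9f8f)) (.leaf (nat_lit 0x0)))) (.node (.node (.leaf (nat_lit 0x12402051a570d0100020543124800e00204c2d04700c4020399910a)) (.leaf (nat_lit 0x0))) (.node (.leaf (nat_lit 0x0)) (.leaf (nat_lit 0x0))))) (.node (.node (.node (.leaf (nat_lit 0xa40203194f0900800203420a4400600202c1c84300440201988906)) (.leaf (nat_lit 0x0))) (.node (.leaf (nat_lit 0x0)) (.leaf (nat_lit 0x0)))) (.node (.node (.leaf (nat_lit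 0x1a402071b605001800207441a4c01600206c3d84b014402059a990e)) (.leaf (nat_lit 0x0))) (.node (.leaf (nat_lit 0x0)) (.leaf (nat_lit 0x0))))))

/-- The words. -/
noncomputable def WT : Tr := (.node (.node (.leaf (nat_lit 0x9)) (.leaf (nat_lit 0x451451451451))) (.node (.leaf (nat_lit 0x12)) (.leaf (nat_lit 0x0))))

/-- Side data. -/
noncomputable def ST : Tr := (.leaf (nat_lit 0x0))

/-- Hints for the words. -/
noncomputable def HT : Tr := (.node (.node (.leaf (nat_lit 0x0)) (.leaf (nat_lit 0x1))) (.node (.leaf (nat_lit 0x3)) (.leaf (nat_lit 0x0))))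

/-- An entry of the table. -/
noncomputable def ent (u a : ℕ) : ℕ :=
  Nat.land
    (Nat.shiftRight
      (Nat.rec (motive := fun _ => ℕ) (Tr.get T 0) (fun m _ => Tr.get T (Nat.succ m))
        (Nat.shiftRight u 2))
      (Nat.add (Nat.mul (Nat.land u 3) 56) (Nat.mul a 14)))
    16383

/-- The parent of a label. -/
noncomputable def pa (v : ℕ) : ℕ := ent v 3

/-- A word. -/
noncomputable def wd (k : ℕ) : ℕ := Tr.get WT k

/-- Side data. -/
noncomputable def side (k : ℕ) : ℕ :=
  Nat.land
    (Nat.shiftRight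
      (Nat.rec (motive := fun _ => ℕ) (Tr.get ST 0) (fun m _ => Tr.get ST (Nat.succ m))
        (Nat.shiftRight k 5))
      (Nat.mul (Nat.land k 31) 14))
    16383

/-- A hint. -/
noncomputable def hint (k : ℕ) : ℕ := Tr.get HT k

/-- The letters of the subgroup. -/
def baseL : List ℕ := []

/-- Is a letter in the subgroup. -/
noncomputable def base (a : ℕ) : Bool := baseL.contains a

/-- The check of a row. -/
noncomputable def F : ℕ → Bool :=
  rowF ent pa wd side base 2 31 5 8 63 3 7 8 16 7 3 32 64

/-- Being alive. -/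
noncomputable def al : ℕ → Bool := aliveB ent 2 32

end Cfsg.Agent.TcData.Suz.R4
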